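import Mathlib
import Cfsg.Agent.ChevalleyStructure.OrthHyp
import Cfsg.Agent.FastGrp
import Cfsg.Agent.Prune
set_option linter.all false
prune_inst 0x7ffcbdfbebf8bfffffff7e77fedfdffdfdb97fffefdffdcbffe065ff2fdf6b048fc5fbaf8bea12fe1fd7e21410f87b53fffffeffea6ffc7ffffdfff41ffbffcffdf7b508519d9cb41fbc0fff83f0778e7f3fffffffffffffffffffffffffffbeffbfffffffff
open scoped Cfsg.Agent.FastGrp

-- part: H451/Tor/OrthCore
section
/-!
# Elements of order `p` of orthogonal groups of characteristic `p`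

`x` an isometry of order dividing `p` of a quadratic space of dimension at least seven over a field of odd
characteristic `p`. If `x` commutes with each of its conjugates `g x g⁻¹`, `g` in the group generated by the
Siegel transformations, for which `⟨x, g x g⁻¹⟩` is a `p`-group, then `x = 1`. (For S3235.)
-/

set_option autoImplicit false
set_option linter.unusedSectionVars false

namespace Cfsg.Agent.H451.Tor.Orth

open Cfsg Cfsg.Agent.ChevalleyStructure.OrthHyp
open scoped MatrixGroups Matrix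

variable {ι : Type} [Fintype ι] [DecidableEq ι] {F : Type*} [Field F]

/-- the action of a matrix -/
abbrev ac (g : GL ι F) (v : ι → F) : ι → F := (g : Matrix ι ι F) *ᵥ v

theorem ac_mul (g h : GL ι F) (v : ι → F) : ac (g * h) v = ac g (ac h v) := act_mul g h v

theorem ac_inv (g : GL ι F) (v : ι → F) : ac g⁻¹ (ac g v) = v := act_inv_act g v

theorem ac_inv' (g : GL ι F) (v : ι → F) : ac g (ac g⁻¹ v) = v := act_act_inv g v

theorem ac_add (g : GL ι F) (v w : ι → F) : ac g (v + w) = ac g v + ac g w := Matrix.mulVec_add _ _ _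

theorem ac_sub (g : GL ι F) (v w : ι → F) : ac g (v - w) = ac g v - ac g w := Matrix.mulVec_sub _ _ _

theorem ac_smul (g : GL ι F) (c : F) (v : ι → F) : ac g (c • v) = c • ac g v := Matrix.mulVec_smul _ _ _

theorem ac_zero (g : GL ι F) : ac g 0 = 0 := Matrix.mulVec_zero _

section pow

variable {p : ℕ} [hp : Fact p.Prime] [CharP F p]

theorem coe_pow_sub (g : GL ι F) : ((g ^ p : GL ι F) : Matrix ι ι F) - 1 = ((g : Matrix ι ι F) - 1) ^ p := by
  have h1 : Commute (g : Matrix ι ι F) 1 := Commute.one_right _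
  by_cases hn : Nonempty ι
  · have : CharP (Matrix ι ι F) p := inferInstance
    rw [sub_pow_char_of_commute p h1, one_pow, Units.val_pow_eq_pow_val]
  · have : IsEmpty ι := not_nonempty_iff.1 hn
    exact Subsingleton.elim _ _

/-- `(g - 1) ^ k z = 0` with `k ≤ p` implies `g ^ p z = z`. -/
theorem pow_fix {g : GL ι F} {k : ℕ} (hk : k ≤ p) {z : ι → F}
    (hz : ((g : Matrix ι ι F) - 1) ^ k *ᵥ z = 0) : ac (g ^ p) z = z := by
  have h1 : ((g ^ p : GL ι F) : Matrix ι ι F) = 1 + ((g : Matrix ι ι F) - 1) ^ p := by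
    rw [← coe_pow_sub, add_sub_cancel]
  show ((g ^ p : GL ι F) : Matrix ι ι F) *ᵥ z = z
  rw [h1, Matrix.add_mulVec, Matrix.one_mulVec, ← Nat.sub_add_cancel hk, pow_add, ← Matrix.mulVec_mulVec, hz,
    Matrix.mulVec_zero, add_zero]

theorem sub_one_mulVec (g : GL ι F) (z : ι → F) : ((g : Matrix ι ι F) - 1) *ᵥ z = ac g z - z := by
  rw [Matrix.sub_mulVec, Matrix.one_mulVec]

end pow

/-! ### The criterion for `p`-groups -/

section PG

variable (H : HypForm ι F) (E E1 E2 : Submodule F (ι → F))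

/-- `z` is orthogonal to `E` -/
def Perp (z : ι → F) : Prop := ∀ a ∈ E, H.B a z = 0

/-- isometries acting unipotently on the flag `E1 ≤ E2 ≤ E` -/
def Flag (h12 : E1 ≤ E2) (h2 : E2 ≤ E) : Subgroup (GL ι F) where
  carrier := {g | g ∈ H.O ∧ (∀ a ∈ E, ac g a - a ∈ E2) ∧ (∀ a ∈ E2, ac g a - a ∈ E1) ∧ (∀ a ∈ E1, ac g a = a)}
  one_mem' := by
    refine ⟨one_mem _, fun a _ => ?_, fun a _ => ?_, fun a _ => act_one a⟩
    · have : ac (1 : GL ι F) a - a = 0 := by rw [show ac (1 : GL ι F) a = a from act_one a, sub_self]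
      rw [this]; exact zero_mem _
    · have : ac (1 : GL ι F) a - a = 0 := by rw [show ac (1 : GL ι F) a = a from act_one a, sub_self]
      rw [this]; exact zero_mem _
  mul_mem' := by
    rintro g h ⟨hgO, hg1, hg2, hg3⟩ ⟨hhO, hh1, hh2, hh3⟩
    refine ⟨mul_mem hgO hhO, fun a ha => ?_, fun a ha => ?_, fun a ha => ?_⟩
    · have h3 := hh1 a ha
      have h4 : ac h a ∈ E := by
        have := E.add_mem (h2 h3) ha
        simpa using this
      have h5 := E2.add_mem (hg1 _ h4) h3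
      rw [ac_mul]
      simpa using h5
    · have h3 := hh2 a ha
      have h4 : ac h a ∈ E2 := by
        have := E2.add_mem (h12 h3) ha
        simpa using this
      have h5 := E1.add_mem (hg2 _ h4) h3
      rw [ac_mul]
      simpa using h5
    · rw [ac_mul, hh3 a ha, hg3 a ha]
  inv_mem' := by
    rintro g ⟨hgO, hg1, hg2, hg3⟩
    have k3 : ∀ a ∈ E1, ac g⁻¹ a = a := fun a ha => by
      have := congrArg (ac g⁻¹) (hg3 a ha)
      rw [ac_inv] at this
      exact this.symm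
    have k2 : ∀ a ∈ E2, ac g⁻¹ a - a ∈ E1 := fun a ha => by
      have h3 := hg2 a ha
      have h4 := congrArg (ac g⁻¹) (show ac g a = (ac g a - a) + a by abel)
      rw [ac_inv, ac_add, k3 _ h3] at h4
      have h5 : ac g⁻¹ a - a = -(ac g a - a) := by
        rw [eq_neg_iff_add_eq_zero, sub_add_eq_add_sub, add_comm (ac g⁻¹ a), ← h4, sub_self]
      rw [h5]
      exact E1.neg_mem h3
    refine ⟨inv_mem hgO, fun a ha => ?_, k2, k3⟩
    have h3 := hg1 a ha
    have h4 := congrArg (ac g⁻¹) (show ac g a = (ac g a - a) + a by abel)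
    rw [ac_inv, ac_add] at h4
    have h7 : ac g⁻¹ (ac g a - a) ∈ E2 := by
      have := E2.add_mem (h12 (k2 _ h3)) h3
      simpa using this
    have h5 : ac g⁻¹ a - a = -(ac g⁻¹ (ac g a - a)) := by
      rw [eq_neg_iff_add_eq_zero, sub_add_eq_add_sub, add_comm (ac g⁻¹ a), ← h4, sub_self]
    rw [h5]
    exact E2.neg_mem h7

variable {H E E1 E2} {h12 : E1 ≤ E2} {h2 : E2 ≤ E}

theorem Flag.maps {g : GL ι F} (hg : g ∈ Flag H E E1 E2 h12 h2) {a : ι → F} (ha : a ∈ E) : ac g a ∈ E := by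
  have := E.add_mem (h2 (hg.2.1 a ha)) ha
  simpa using this

theorem Flag.perp {g : GL ι F} (hg : g ∈ Flag H E E1 E2 h12 h2) {z : ι → F} (hz : Perp H E z) :
    Perp H E (ac g z) := by
  obtain ⟨hgO, hg1, hg2, hg3⟩ := hg
  have e : ∀ a : ι → F, H.B a (ac g z) = H.B (ac g a) (ac g z) - H.B (ac g a - a) (ac g z) := by
    intro a
    rw [H.B_sub]; ring
  have k1 : ∀ a ∈ E1, H.B a (ac g z) = 0 := fun a ha => by
    have := H.B_act hgO a z
    change H.B (ac g a) (ac g z) = _ at this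
    rw [hg3 a ha, hz a (h2 (h12 ha))] at this
    exact this
  have k2 : ∀ a ∈ E2, H.B a (ac g z) = 0 := fun a ha => by
    have h := H.B_act hgO a z
    change H.B (ac g a) (ac g z) = _ at h
    rw [e, h, hz a (h2 ha), k1 _ (hg2 a ha), sub_zero]
  intro a ha
  have h := H.B_act hgO a z
  change H.B (ac g a) (ac g z) = _ at h
  rw [e, h, hz a ha, k2 _ (hg1 a ha), sub_zero]

variable {x : GL ι F}

/-- `g` acts like `x ^ j` modulo `E` on the orthogonal space of `E`. -/
def Like (H : HypForm ι F) (E : Submodule F (ι → F)) (x g : GL ι F) (j : ℤ) : Prop :=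
  ∀ z, Perp H E z → ac g z - ac (x ^ j) z ∈ E

theorem Like.mul (hx : x ∈ Flag H E E1 E2 h12 h2) {g h : GL ι F} (hg : g ∈ Flag H E E1 E2 h12 h2)
    {j k : ℤ} (h1 : Like H E x g j) (h3 : Like H E x h k) : Like H E x (g * h) (j + k) := by
  intro z hz
  have h4 := h3 z hz
  have h5 := Flag.maps hg h4
  have h6 := h1 (ac (x ^ k) z) (Flag.perp (zpow_mem hx k) hz)
  have h7 := E.add_mem h5 h6
  rw [ac_mul, zpow_add, ac_mul]
  rw [ac_sub] at h7
  simpa only [_root_.Matrix.mulVec_mulVec, _root_.Matrix.coe_units_zpow, _root_.sub_add_sub_cancel] using h7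

theorem Like.pow (hx : x ∈ Flag H E E1 E2 h12 h2) {g : GL ι F} (hg : g ∈ Flag H E E1 E2 h12 h2)
    {j : ℤ} (h1 : Like H E x g j) (n : ℕ) : Like H E x (g ^ n) (n * j) := by
  induction n with
  | zero =>
    intro z _
    rw [pow_zero]
    simp
  | succ n ih =>
    have := ih.mul hx (pow_mem hg n) h1
    rw [pow_succ]
    convert this using 1
    push_cast
    ring

theorem Like.inv (hx : x ∈ Flag H E E1 E2 h12 h2) {g : GL ι F} (hg : g ∈ Flag H E E1 E2 h12 h2)
    {j : ℤ} (h1 : Like H E x g j) : Like H E x g⁻¹ (-j) := by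
  intro z hz
  have h3 := h1 (ac (x ^ (-j)) z) (Flag.perp (zpow_mem hx (-j)) hz)
  rw [← ac_mul (x ^ j), ← zpow_add, add_neg_cancel, zpow_zero] at h3
  have h4 : ac (1 : GL ι F) z = z := act_one z
  rw [h4] at h3
  have h5 := E.neg_mem (Flag.maps (inv_mem hg) h3)
  rw [ac_sub, ac_inv] at h5
  simpa using h5

variable {p : ℕ} [hp : Fact p.Prime] [CharP F p]

theorem pow_three (hp3 : 3 ≤ p) (hx : x ∈ Flag H E E1 E2 h12 h2) (hxp : x ^ p = 1)
    (hE : ∀ a ∈ E, Perp H E a) {g : GL ι F}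
    (hg : g ∈ Flag H E E1 E2 h12 h2) {j : ℤ} (h1 : Like H E x g j) : g ^ p ^ 3 = 1 := by
  have hgO := hg.1
  -- on `E`
  have k1 : ∀ a ∈ E, ac (g ^ p) a = a := by
    intro a ha
    apply pow_fix hp3
    have e : ((g : Matrix ι ι F) - 1) ^ 3 = ((g : Matrix ι ι F) - 1) * (((g : Matrix ι ι F) - 1) * ((g : Matrix ι ι F) - 1)) := by
      rw [pow_succ', pow_two]
    rw [e, ← Matrix.mulVec_mulVec, ← Matrix.mulVec_mulVec, sub_one_mulVec, sub_one_mulVec, sub_one_mulVec]
    exact sub_eq_zero.2 (hg.2.2.2 _ (hg.2.2.1 _ (hg.2.1 a ha)))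
  -- on `E^⊥` modulo `E`
  have k2 : ∀ z, Perp H E z → ac (g ^ p) z - z ∈ E := by
    intro z hz
    have h3 := h1.pow hx hg p z hz
    rw [zpow_mul, zpow_natCast, hxp, one_zpow] at h3
    have h4 : ac (1 : GL ι F) z = z := act_one z
    rwa [h4] at h3
  have k3 : ∀ z, Perp H E z → ac ((g ^ p) ^ p) z = z := by
    intro z hz
    apply pow_fix (k := 2) hp.out.two_le
    rw [pow_two, ← Matrix.mulVec_mulVec, sub_one_mulVec, sub_one_mulVec]
    exact sub_eq_zero.2 (k1 _ (k2 z hz))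
  have k4 : ∀ b, Perp H E (ac ((g ^ p) ^ p) b - b) := by
    intro b a ha
    have h3 := H.B_act (pow_mem (pow_mem hgO p) p) a b
    change H.B (ac ((g ^ p) ^ p) a) (ac ((g ^ p) ^ p) b) = _ at h3
    rw [k3 a (hE a ha)] at h3
    rw [H.B_sub', h3, sub_self]
  have k5 : ∀ b, ac (((g ^ p) ^ p) ^ p) b = b := by
    intro b
    apply pow_fix (k := 2) hp.out.two_le
    rw [pow_two, ← Matrix.mulVec_mulVec, sub_one_mulVec, sub_one_mulVec]
    exact sub_eq_zero.2 (k3 _ (k4 b))
  have k6 : ((g ^ p) ^ p) ^ p = 1 := ext_act fun v => by rw [act_one]; exact k5 v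
  rw [← pow_mul, ← pow_mul] at k6
  rw [← k6]
  congr 1
  ring

/-- **The criterion.** -/
theorem isPGroup (hp3 : 3 ≤ p) (hx : x ∈ Flag H E E1 E2 h12 h2) (hxp : x ^ p = 1)
    (hE : ∀ a ∈ E, Perp H E a) {y : GL ι F} (hy : y ∈ Flag H E E1 E2 h12 h2)
    (hxy : ∀ z, Perp H E z → ac y z - ac x z ∈ E) :
    IsPGroup p (Subgroup.closure ({x, y} : Set (GL ι F))) := by
  have key : ∀ g ∈ Subgroup.closure ({x, y} : Set (GL ι F)),
      g ∈ Flag H E E1 E2 h12 h2 ∧ ∃ j : ℤ, Like H E x g j := by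
    intro g hg
    induction hg using Subgroup.closure_induction with
    | mem g hg =>
      rcases hg with rfl | hg
      · refine ⟨hx, 1, fun z _ => ?_⟩
        rw [zpow_one, sub_self]
        exact zero_mem _
      · rw [Set.mem_singleton_iff] at hg
        subst hg
        refine ⟨hy, 1, fun z hz => ?_⟩
        rw [zpow_one]
        exact hxy z hz
    | one => exact ⟨one_mem _, 0, fun z _ => by simp⟩
    | mul g h _ _ h1 h3 =>
      obtain ⟨h1, j, h4⟩ := h1
      obtain ⟨h3, k, h5⟩ := h3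
      exact ⟨mul_mem h1 h3, j + k, h4.mul hx h1 h5⟩
    | inv g _ h1 =>
      obtain ⟨h1, j, h4⟩ := h1
      exact ⟨inv_mem h1, -j, h4.inv hx h1⟩
  rintro ⟨g, hg⟩
  obtain ⟨h1, j, h3⟩ := key g hg
  exact ⟨3, Subtype.ext (pow_three hp3 hx hxp hE h1 h3)⟩

end PG

/-! ### Conjugation by elements trivial on `E^⊥ / E` -/

section TE

variable (H : HypForm ι F) (E : Submodule F (ι → F))

/-- isometries fixing `E` and acting trivially on `E^⊥ / E` -/
def TE : Subgroup (GL ι F) where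
  carrier := {g | g ∈ H.O ∧ (∀ a ∈ E, ac g a ∈ E) ∧ (∀ a ∈ E, ac g⁻¹ a ∈ E) ∧ ∀ z, Perp H E z → ac g z - z ∈ E}
  one_mem' := by
    have h1 : ∀ a : ι → F, ac (1 : GL ι F) a = a := fun a => act_one a
    refine ⟨one_mem _, fun a ha => ?_, fun a ha => ?_, fun z _ => ?_⟩
    · rwa [h1]
    · rwa [inv_one, h1]
    · rw [h1, sub_self]; exact zero_mem _
  mul_mem' := by
    rintro g h ⟨hgO, hg1, hg2, hg3⟩ ⟨hhO, hh1, hh2, hh3⟩
    refine ⟨mul_mem hgO hhO, fun a ha => ?_, fun a ha => ?_, fun z hz => ?_⟩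
    · rw [ac_mul]; exact hg1 _ (hh1 a ha)
    · rw [mul_inv_rev, ac_mul]; exact hh2 _ (hg2 a ha)
    · have h3 := E.add_mem (hg1 _ (hh3 z hz)) (hg3 z hz)
      rw [ac_mul]
      rw [ac_sub] at h3
      simpa using h3
  inv_mem' := by
    rintro g ⟨hgO, hg1, hg2, hg3⟩
    refine ⟨inv_mem hgO, hg2, fun a ha => ?_, fun z hz => ?_⟩
    · rw [inv_inv]; exact hg1 a ha
    · have h3 := E.neg_mem (hg2 _ (hg3 z hz))
      rw [ac_sub, ac_inv] at h3
      simpa using h3

variable {H E}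

theorem sieg_mem_TE (hE : ∀ a ∈ E, Perp H E a) {e u : ι → F} (heE : e ∈ E) (he : H.Q e = 0)
    (hu : H.B e u = 0) : H.sieg e u he hu ∈ TE H E := by
  have hu' : H.B e (-u) = 0 := by rw [H.B_neg', hu, neg_zero]
  have hin : (H.sieg e u he hu)⁻¹ = H.sieg e (-u) he hu' := by
    rw [inv_eq_iff_mul_eq_one, H.sieg_mul he hu hu' (by rw [add_neg_cancel, H.B_zero'])]
    apply ext_act
    intro v
    rw [H.sieg_act, add_neg_cancel, H.sgl_zero, act_one]
  have k1 : ∀ u : ι → F, ∀ a ∈ E, H.sgl e u a ∈ E := by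
    intro u a ha
    rw [H.sgl_def, show H.B e a = 0 from hE a ha e heE]
    simp only [zero_smul, mul_zero, add_zero, sub_zero]
    exact E.sub_mem ha (E.smul_mem _ heE)
  refine ⟨H.sieg_mem_O he hu, fun a ha => ?_, fun a ha => ?_, fun z hz => ?_⟩
  · show (H.sieg e u he hu : Matrix ι ι F) *ᵥ a ∈ E
    rw [H.sieg_act]; exact k1 u a ha
  · rw [hin]
    show (H.sieg e (-u) he hu' : Matrix ι ι F) *ᵥ a ∈ E
    rw [H.sieg_act]; exact k1 (-u) a ha
  · show (H.sieg e u he hu : Matrix ι ι F) *ᵥ z - z ∈ E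
    rw [H.sieg_act, H.sgl_def, hz e heE]
    simp only [zero_smul, mul_zero, add_zero, sub_zero]
    have : z - H.B u z • e - z = -(H.B u z • e) := by abel
    rw [this]
    exact E.neg_mem (E.smul_mem _ heE)

/-- `g x g⁻¹` acts like `x` on `E^⊥ / E` -/
theorem conj_like {E1 E2 : Submodule F (ι → F)} {h12 : E1 ≤ E2} {h2 : E2 ≤ E} {g x : GL ι F} (hg : g ∈ TE H E)
    (hx : x ∈ Flag H E E1 E2 h12 h2) {z : ι → F} (hz : Perp H E z) :
    ac (g * x * g⁻¹) z - ac x z ∈ E := by
  obtain ⟨-, hg1, hg2, hg3⟩ := hg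
  have h3 : ac g⁻¹ z - z ∈ E := by
    have h3 := E.neg_mem (hg2 _ (hg3 z hz))
    rw [ac_sub, ac_inv] at h3
    simpa using h3
  have h4 := hg1 _ (Flag.maps hx h3)
  have h5 := hg3 _ (Flag.perp hx hz)
  have h6 := E.add_mem h4 h5
  rw [ac_mul, ac_mul]
  rw [ac_sub, ac_sub] at h6
  simpa only [_root_.Matrix.mulVec_mulVec, _root_.Matrix.coe_units_inv, _root_.sub_add_sub_cancel] using h6

end TE

/-! ### Nondegeneracy -/

section nd

variable (H : HypForm ι F)

theorem nd (h2 : (2 : F) ≠ 0) {u : ι → F} (hu : ∀ v, H.B u v = 0) : u = 0 := by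
  apply H.aniso
  · intro i hi
    rw [← H.B_single_bar hi u, H.B_comm, hu]
  · have h3 := H.B_self u
    rw [hu] at h3
    exact (mul_eq_zero.1 h3.symm).resolve_left h2

/-- the bilinear form -/
def Bf : (ι → F) →ₗ[F] (ι → F) →ₗ[F] F :=
  LinearMap.mk₂ F H.B H.B_add H.B_smul H.B_add' H.B_smul'

theorem Bf_apply (u v : ι → F) : Bf H u v = H.B u v := rfl

theorem exists_dual (h2 : (2 : F) ≠ 0) {n : ℕ} {e : Fin n → (ι → F)} (he : LinearIndependent F e)
    (c : Fin n → F) : ∃ u, ∀ i, H.B u (e i) = c i := by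
  have hinj : Function.Injective (Bf H) := by
    rw [← LinearMap.ker_eq_bot, LinearMap.ker_eq_bot']
    intro u hu
    exact nd H h2 fun v => DFunLike.congr_fun hu v
  have hsurj : Function.Surjective (Bf H) := by
    have h3 : Module.finrank F (ι → F) = Module.finrank F ((ι → F) →ₗ[F] F) :=
      (Subspace.dual_finrank_eq (K := F) (V := ι → F)).symm
    exact (LinearMap.injective_iff_surjective_of_finrank_eq_finrank h3).1 hinj
  let b := Module.Basis.span he
  obtain ⟨φ, hφ⟩ := LinearMap.exists_extend (b.constr F c)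
  obtain ⟨u, hu⟩ := hsurj φ
  refine ⟨u, fun i => ?_⟩
  have h3 : Bf H u (e i) = φ (e i) := DFunLike.congr_fun hu _
  have h4 : ((b i : Submodule.span F (Set.range e)) : ι → F) = e i := by
    rw [Module.Basis.span_apply he i]
  have h5 : φ (b i : ι → F) = c i := by
    have := DFunLike.congr_fun hφ (b i)
    rw [Module.Basis.constr_basis] at this
    exact this
  rw [← Bf_apply, h3, ← h4, h5]

end nd

/-! ### The main argument -/

section main

variable (H : HypForm ι F) (p : ℕ) [hp : Fact p.Prime] [CharP F p]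

/-- `x` commutes with its conjugates under `E` which generate a `p`-group with `x`. -/
def Cond (x : GL ι F) : Prop :=
  ∀ g ∈ H.E, IsPGroup p (Subgroup.closure ({x, g * x * g⁻¹} : Set (GL ι F))) →
    x * (g * x * g⁻¹) = g * x * g⁻¹ * x

variable {H p} {x : GL ι F}

/-- All Siegel transformations lie in `E`. -/
def Sg (H : HypForm ι F) : Prop :=
  ∀ (e u : ι → F) (he : H.Q e = 0) (hu : H.B e u = 0), H.sieg e u he hu ∈ H.E

theorem span_perp {a b c : ι → F} {z : ι → F} (ha : H.B a z = 0) (hb : H.B b z = 0) (hc : H.B c z = 0) :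
    Perp H (Submodule.span F {a, b, c}) z := by
  intro w hw
  obtain ⟨r, s, t, rfl⟩ := Submodule.mem_span_triple.1 hw
  rw [H.B_add, H.B_add, H.B_smul, H.B_smul, H.B_smul, ha, hb, hc]
  ring

theorem of_Q_zero {a : ι → F} (ha : H.Q a = 0) : H.B a a = 0 := by
  rw [H.B_self, ha, mul_zero]

theorem Q_of_B (h2 : (2 : F) ≠ 0) {a : ι → F} (ha : H.B a a = 0) : H.Q a = 0 := by
  have h3 := H.B_self a
  rw [ha] at h3
  exact (mul_eq_zero.1 h3.symm).resolve_left h2

/-- **A2**: `x` does not act as a transvection on a totally singular space of dimension three. -/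
theorem false_of_transvection (hp3 : 3 ≤ p) (h2 : (2 : F) ≠ 0) (hS : Sg H) (hC : Cond H p x) (hxO : x ∈ H.O)
    (hxp : x ^ p = 1) {v n w : ι → F} (hli : LinearIndependent F ![v, n, w]) (hv : H.Q v = 0) (hn : H.Q n = 0)
    (hw : H.Q w = 0) (hvn : H.B v n = 0) (hvw : H.B v w = 0) (hnw : H.B n w = 0) (hxv : ac x v = v)
    (hxn : ac x n = n) (hxw : ac x w = w + n) : False := by
  obtain ⟨u1, hu1⟩ := exists_dual H h2 hli ![0, -1, 0]
  obtain ⟨u2, hu2⟩ := exists_dual H h2 hli ![-1, 0, 0]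
  have a1 : H.B u1 v = 0 := hu1 0
  have a2 : H.B u1 n = -1 := hu1 1
  have a3 : H.B u1 w = 0 := hu1 2
  have b1 : H.B u2 v = -1 := hu2 0
  have b2 : H.B u2 n = 0 := hu2 1
  have b3 : H.B u2 w = 0 := hu2 2
  have hvv := of_Q_zero hv
  have hnn := of_Q_zero hn
  have hww := of_Q_zero hw
  have a1' : H.B v u1 = 0 := by rw [H.B_comm, a1]
  have b3' : H.B w u2 = 0 := by rw [H.B_comm, b3]
  have hwv : H.B w v = 0 := by rw [H.B_comm, hvw]
  have hnv : H.B n v = 0 := by rw [H.B_comm, hvn]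
  have hwn : H.B w n = 0 := by rw [H.B_comm, hnw]
  set t1 := H.sieg v u1 hv a1' with ht1
  set t2 := H.sieg w u2 hw b3' with ht2
  set g := t1 * t2 with hg
  have gE : g ∈ H.E := mul_mem (hS _ _ _ _) (hS _ _ _ _)
  set E : Submodule F (ι → F) := Submodule.span F {v, n, w} with hEdef
  set E2 : Submodule F (ι → F) := Submodule.span F {v, n} with hE2def
  set E1 : Submodule F (ι → F) := Submodule.span F {n + v} with hE1def
  have vE : v ∈ E := Submodule.subset_span (by simp)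
  have nE : n ∈ E := Submodule.subset_span (by simp)
  have wE : w ∈ E := Submodule.subset_span (by simp)
  have vE2 : v ∈ E2 := Submodule.subset_span (by simp)
  have nE2 : n ∈ E2 := Submodule.subset_span (by simp)
  have h12 : E1 ≤ E2 := by
    rw [hE1def, Submodule.span_singleton_le_iff_mem]
    exact E2.add_mem nE2 vE2
  have h2E : E2 ≤ E := Submodule.span_mono (by intro z hz; simp only [Set.mem_insert_iff, Set.mem_singleton_iff] at hz ⊢; (clear * - hz; tauto))
  have hE : ∀ a ∈ E, Perp H E a := by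
    intro a ha
    obtain ⟨r, s, t, rfl⟩ := Submodule.mem_span_triple.1 ha
    apply span_perp
    · simp only [H.B_add', H.B_smul', hvv, hvn, hvw]; ring
    · simp only [H.B_add', H.B_smul', hnv, hnn, hnw]; ring
    · simp only [H.B_add', H.B_smul', hwv, hwn, hww]; ring
  have gT : g ∈ TE H E := mul_mem (sieg_mem_TE hE vE hv a1') (sieg_mem_TE hE wE hw b3')
  -- the action of `g` on `E`
  have s2 : ∀ z, ac t2 z = H.sgl w u2 z := fun z => H.sieg_act hw b3' z
  have s1 : ∀ z, ac t1 z = H.sgl v u1 z := fun z => H.sieg_act hv a1' z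
  have gv : ac g v = v + w := by
    rw [hg, ac_mul, s2, s1]
    have : H.sgl w u2 v = v + w := by
      rw [H.sgl_def, hwv, b1]
      simp
    rw [this, H.sgl_def, H.B_add', H.B_add', hvv, hvw, a1, a3]
    simp
  have gn : ac g n = n + v := by
    rw [hg, ac_mul, s2, s1]
    have : H.sgl w u2 n = n := by
      rw [H.sgl_def, hwn, b2]
      simp
    rw [this, H.sgl_def, hvn, a2]
    simp
  have gw : ac g w = w := by
    rw [hg, ac_mul, s2, s1]
    have : H.sgl w u2 w = w := by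
      rw [H.sgl_def, hww, b3]
      simp
    rw [this, H.sgl_def, hvw, a3]
    simp
  set y := g * x * g⁻¹ with hy
  have yg : ∀ z, ac y (ac g z) = ac g (ac x z) := by
    intro z
    rw [hy, ac_mul, ac_mul, ac_inv]
  have yw : ac y w = w + (n + v) := by
    have h3 := yg w
    rw [gw, hxw, ac_add, gw, gn] at h3
    exact h3
  have yv : ac y v = -n := by
    have h3 := yg v
    rw [gv, hxv, gv, ac_add, yw] at h3
    have : ac y v = v + w - (w + (n + v)) := by rw [← h3]; abel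
    rw [this]; abel
  have yn : ac y n = n + (n + v) := by
    have h3 := yg n
    rw [gn, hxn, gn, ac_add, yv] at h3
    have : ac y n = n + v - (-n) := by rw [← h3]; abel
    rw [this]; abel
  have xF : x ∈ Flag H E E1 E2 h12 h2E := by
    refine ⟨hxO, fun a ha => ?_, fun a ha => ?_, fun a ha => ?_⟩
    · obtain ⟨r, s, t, rfl⟩ := Submodule.mem_span_triple.1 ha
      have : ac x (r • v + s • n + t • w) - (r • v + s • n + t • w) = t • n := by
        rw [ac_add, ac_add, ac_smul, ac_smul, ac_smul, hxv, hxn, hxw, smul_add]; abel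
      rw [this]
      exact E2.smul_mem _ nE2
    · obtain ⟨r, s, rfl⟩ := Submodule.mem_span_pair.1 ha
      have : ac x (r • v + s • n) - (r • v + s • n) = 0 := by
        rw [ac_add, ac_smul, ac_smul, hxv, hxn]; abel
      rw [this]
      exact zero_mem _
    · obtain ⟨r, rfl⟩ := Submodule.mem_span_singleton.1 ha
      rw [ac_smul, ac_add, hxn, hxv]
  have yF : y ∈ Flag H E E1 E2 h12 h2E := by
    refine ⟨mul_mem (mul_mem gT.1 hxO) (inv_mem gT.1), fun a ha => ?_, fun a ha => ?_, fun a ha => ?_⟩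
    · obtain ⟨r, s, t, rfl⟩ := Submodule.mem_span_triple.1 ha
      have : ac y (r • v + s • n + t • w) - (r • v + s • n + t • w) = (s + t - r) • (n + v) := by
        rw [ac_add, ac_add, ac_smul, ac_smul, ac_smul, yv, yn, yw]
        module
      rw [this]
      exact E2.smul_mem _ (E2.add_mem nE2 vE2)
    · obtain ⟨r, s, rfl⟩ := Submodule.mem_span_pair.1 ha
      have : ac y (r • v + s • n) - (r • v + s • n) = (s - r) • (n + v) := by
        rw [ac_add, ac_smul, ac_smul, yv, yn]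
        module
      rw [this]
      exact E1.smul_mem _ (Submodule.mem_span_singleton_self _)
    · obtain ⟨r, rfl⟩ := Submodule.mem_span_singleton.1 ha
      rw [ac_smul, ac_add, yn, yv]
      module
  have hpg : IsPGroup p (Subgroup.closure ({x, y} : Set (GL ι F))) :=
    isPGroup hp3 xF hxp hE yF fun z hz => conj_like gT xF hz
  have hcomm : x * y = y * x := hC g gE hpg
  have h3 : ac (x * y) w = ac (y * x) w := by rw [hcomm]
  rw [ac_mul x y, ac_mul y x, yw, hxw, ac_add, ac_add, ac_add, hxw, hxn, hxv, yw, yn] at h3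
  have h4 : n + v = 0 := by
    have h5 : w + (n + v) + (n + (n + v)) - (w + n + (n + v)) = 0 := by rw [← h3, sub_self]
    rw [← h5]; abel
  have h6 : H.B u1 (n + v) = 0 := by rw [h4, H.B_zero']
  rw [H.B_add', a2, a1, add_zero] at h6
  exact one_ne_zero (neg_eq_zero.1 h6)

/-- a vector of `E^⊥` which is not orthogonal to `E^⊥` but orthogonal to `(x - 1) E^⊥` -/
theorem exists_last {E : Submodule F (ι → F)} (hxO : x ∈ H.O) (hxp : x ^ p = 1)
    (hx : ∀ z, Perp H E z → Perp H E (ac x z)) (hne : ∃ z1 z, Perp H E z1 ∧ Perp H E z ∧ H.B z1 z ≠ 0) :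
    ∃ u0, Perp H E u0 ∧ (∀ z, Perp H E z → H.B u0 (ac x z) = H.B u0 z) ∧ ∃ z0, Perp H E z0 ∧ H.B u0 z0 ≠ 0 := by
  classical
  set M : Matrix ι ι F := (x : Matrix ι ι F) - 1 with hM
  have hMp : ∀ k z, Perp H E z → Perp H E (M ^ k *ᵥ z) := by
    intro k z hz
    induction k with
    | zero => rwa [pow_zero, Matrix.one_mulVec]
    | succ k ih =>
      rw [pow_succ', ← Matrix.mulVec_mulVec, hM, sub_one_mulVec]
      intro a ha
      rw [H.B_sub', hx _ ih a ha, ← hM, ih a ha, sub_zero]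
  have hex : ∃ k, ∀ z1 z, Perp H E z1 → Perp H E z → H.B (M ^ k *ᵥ z1) z = 0 := by
    refine ⟨p, fun z1 z _ _ => ?_⟩
    rw [hM, ← coe_pow_sub, hxp, Units.val_one, sub_self, Matrix.zero_mulVec, H.B_zero]
  obtain ⟨k, hk⟩ : ∃ k, Nat.find hex = k + 1 := by
    rcases Nat.eq_zero_or_pos (Nat.find hex) with h | h
    · exfalso
      obtain ⟨z1, z, h1, h3, h4⟩ := hne
      have := Nat.find_spec hex z1 z h1 h3
      rw [h, pow_zero, Matrix.one_mulVec] at this
      exact h4 this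
    · exact ⟨Nat.find hex - 1, by omega⟩
  have h1 := Nat.find_spec hex
  rw [hk] at h1
  have h3 : ¬ ∀ z1 z, Perp H E z1 → Perp H E z → H.B (M ^ k *ᵥ z1) z = 0 := Nat.find_min hex (by omega)
  push Not at h3
  obtain ⟨z1, z0, hz1, hz0, h4⟩ := h3
  refine ⟨M ^ k *ᵥ z1, hMp k z1 hz1, fun z hz => ?_, z0, hz0, h4⟩
  have h5 := h1 z1 _ hz1 (hx z hz)
  rw [pow_succ', ← Matrix.mulVec_mulVec, hM, sub_one_mulVec, H.B_sub] at h5
  have h6 := H.B_act hxO ((M ^ k) *ᵥ z1) z
  rw [hM] at h6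
  rw [hM, ← sub_eq_zero.1 h5]
  exact h6

/-- the orthogonal space of a space of dimension three is not totally isotropic in dimension seven -/
theorem exists_not_perp (h2 : (2 : F) ≠ 0) (hcard : 7 ≤ Fintype.card ι) (E : Submodule F (ι → F))
    (hE : Module.finrank F E ≤ 3) : ∃ z1 z, Perp H E z1 ∧ Perp H E z ∧ H.B z1 z ≠ 0 := by
  by_contra hcon
  push Not at hcon
  set B' : LinearMap.BilinForm F (ι → F) := Bf H with hB'
  have hnd : B'.Nondegenerate := by
    constructor
    · intro u hu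
      exact nd H h2 hu
    · intro u hu
      exact nd H h2 fun v => by rw [H.B_comm]; exact hu v
  have hrefl : B'.IsRefl := fun u v huv => by
    change H.B u v = 0 at huv
    change H.B v u = 0
    rw [H.B_comm, huv]
  have h1 := LinearMap.BilinForm.finrank_orthogonal hnd E
  have h3 := LinearMap.BilinForm.finrank_orthogonal hnd (B'.orthogonal E)
  have h4 : B'.orthogonal E ≤ B'.orthogonal (B'.orthogonal E) := by
    intro z hz
    rw [LinearMap.BilinForm.mem_orthogonal_iff]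
    intro z1 hz1
    rw [LinearMap.BilinForm.mem_orthogonal_iff] at hz hz1
    exact hcon z1 z (fun a ha => hz1 a ha) (fun a ha => hz a ha)
  have h5 := Submodule.finrank_mono h4
  rw [Module.finrank_fintype_fun_eq_card] at h1 h3
  omega

theorem finrank_span_three (a b c : ι → F) : Module.finrank F (Submodule.span F {a, b, c}) ≤ 3 := by
  classical
  have h1 := finrank_span_finset_le_card (R := F) ({a, b, c} : Finset (ι → F))
  have h3 : ({a, b, c} : Finset (ι → F)).card ≤ 3 := Finset.card_le_three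
  rw [Finset.coe_insert, Finset.coe_insert, Finset.coe_singleton] at h1
  exact h1.trans h3

/-- **A1**: `x` acts quadratically on totally singular spaces of dimension three. -/
theorem quad (hp3 : 3 ≤ p) (h2 : (2 : F) ≠ 0) (hS : Sg H) (hC : Cond H p x) (hxO : x ∈ H.O)
    (hxp : x ^ p = 1) (hcard : 7 ≤ Fintype.card ι) {v n w : ι → F} (hv0 : v ≠ 0) (hv : H.Q v = 0)
    (hn : H.Q n = 0)
    (hw : H.Q w = 0) (hvn : H.B v n = 0) (hvw : H.B v w = 0) (hnw : H.B n w = 0) {c : F} (hxv : ac x v = v)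
    (hxn : ac x n = n + c • v) (hxw : ac x w = w + n) : c = 0 := by
  have hvv := of_Q_zero hv
  have hnn := of_Q_zero hn
  have hww := of_Q_zero hw
  have hwv : H.B w v = 0 := by rw [H.B_comm, hvw]
  have hnv : H.B n v = 0 := by rw [H.B_comm, hvn]
  have hwn : H.B w n = 0 := by rw [H.B_comm, hnw]
  set E : Submodule F (ι → F) := Submodule.span F {v, n, w} with hEdef
  set E2 : Submodule F (ι → F) := Submodule.span F {v, n} with hE2def
  set E1 : Submodule F (ι → F) := Submodule.span F {v} with hE1def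
  have vE : v ∈ E := Submodule.subset_span (by simp)
  have nE : n ∈ E := Submodule.subset_span (by simp)
  have wE : w ∈ E := Submodule.subset_span (by simp)
  have vE2 : v ∈ E2 := Submodule.subset_span (by simp)
  have nE2 : n ∈ E2 := Submodule.subset_span (by simp)
  have vE1 : v ∈ E1 := Submodule.subset_span (by simp)
  have h12 : E1 ≤ E2 := by
    rw [hE1def, Submodule.span_singleton_le_iff_mem]
    exact vE2
  have h2E : E2 ≤ E := Submodule.span_mono (by intro z hz; simp only [Set.mem_insert_iff, Set.mem_singleton_iff] at hz ⊢; (clear * - hz; tauto))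
  have hE : ∀ a ∈ E, Perp H E a := by
    intro a ha
    obtain ⟨r, s, t, rfl⟩ := Submodule.mem_span_triple.1 ha
    apply span_perp
    · simp only [H.B_add', H.B_smul', hvv, hvn, hvw]; ring
    · simp only [H.B_add', H.B_smul', hnv, hnn, hnw]; ring
    · simp only [H.B_add', H.B_smul', hwv, hwn, hww]; ring
  have xF : x ∈ Flag H E E1 E2 h12 h2E := by
    refine ⟨hxO, fun a ha => ?_, fun a ha => ?_, fun a ha => ?_⟩
    · obtain ⟨r, s, t, rfl⟩ := Submodule.mem_span_triple.1 ha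
      have : ac x (r • v + s • n + t • w) - (r • v + s • n + t • w) = (s * c) • v + t • n := by
        rw [ac_add, ac_add, ac_smul, ac_smul, ac_smul, hxv, hxn, hxw]
        module
      rw [this]
      exact E2.add_mem (E2.smul_mem _ vE2) (E2.smul_mem _ nE2)
    · obtain ⟨r, s, rfl⟩ := Submodule.mem_span_pair.1 ha
      have : ac x (r • v + s • n) - (r • v + s • n) = (s * c) • v := by
        rw [ac_add, ac_smul, ac_smul, hxv, hxn]
        module
      rw [this]
      exact E1.smul_mem _ vE1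
    · obtain ⟨r, rfl⟩ := Submodule.mem_span_singleton.1 ha
      rw [ac_smul, hxv]
  obtain ⟨u0, hu0, hux, z0, hz0, hz0'⟩ := exists_last (E := E) hxO hxp (fun z hz => Flag.perp xF hz)
    (exists_not_perp h2 hcard E (finrank_span_three _ _ _))
  have hwu : H.B w u0 = 0 := hu0 w wE
  have hwu' : H.B w (-u0) = 0 := by rw [H.B_neg', hwu, neg_zero]
  set g := H.sieg w u0 hw hwu with hg
  have hin : g⁻¹ = H.sieg w (-u0) hw hwu' := by
    rw [hg, inv_eq_iff_mul_eq_one, H.sieg_mul hw hwu hwu' (by rw [add_neg_cancel, H.B_zero'])]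
    apply ext_act
    intro v
    rw [H.sieg_act, add_neg_cancel, H.sgl_zero, act_one]
  have gE : g ∈ H.E := hS _ _ _ _
  have gT : g ∈ TE H E := sieg_mem_TE hE wE hw hwu
  have g1 : ∀ z, Perp H E z → ac g z = z - H.B u0 z • w := by
    intro z hz
    show (g : Matrix ι ι F) *ᵥ z = _
    rw [hg, H.sieg_act, H.sgl_def, hz w wE]
    simp
  have g2 : ∀ z, Perp H E z → ac g⁻¹ z = z + H.B u0 z • w := by
    intro z hz
    show ((g⁻¹ : GL ι F) : Matrix ι ι F) *ᵥ z = _
    rw [hin, H.sieg_act, H.sgl_def, hz w wE, H.B_neg]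
    simp
  have u0E : ∀ a ∈ E, H.B u0 a = 0 := fun a ha => by rw [H.B_comm]; exact hu0 a ha
  set y := g * x * g⁻¹ with hy
  have y1 : ∀ z, Perp H E z → ac y z = ac x z + H.B u0 z • n := by
    intro z hz
    have e1 : ac x z + H.B u0 z • (w + n) = ac x (z + H.B u0 z • w) := by
      rw [ac_add, ac_smul, hxw]
    have e3 : Perp H E (ac x z) := Flag.perp xF hz
    have e4 : Perp H E (z + H.B u0 z • w) := by
      intro a ha
      rw [H.B_add', H.B_smul', hz a ha, hE w wE a ha]; ring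
    rw [hy, ac_mul, ac_mul, g2 z hz, g1 _ (Flag.perp xF e4), ← e1, H.B_add', H.B_smul', H.B_add', hux z hz,
      u0E w wE, u0E n nE]
    module
  have y2 : ∀ a ∈ E, ac y a = ac x a := by
    intro a ha
    rw [y1 a (hE a ha), u0E a ha, zero_smul, add_zero]
  have yF : y ∈ Flag H E E1 E2 h12 h2E := by
    refine ⟨mul_mem (mul_mem gT.1 hxO) (inv_mem gT.1), fun a ha => ?_, fun a ha => ?_, fun a ha => ?_⟩
    · rw [y2 a ha]; exact xF.2.1 a ha
    · rw [y2 a (h2E ha)]; exact xF.2.2.1 a ha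
    · rw [y2 a (h2E (h12 ha))]; exact xF.2.2.2 a ha
  have hpg : IsPGroup p (Subgroup.closure ({x, y} : Set (GL ι F))) :=
    isPGroup hp3 xF hxp hE yF fun z hz => conj_like gT xF hz
  have hcomm : x * y = y * x := hC g gE hpg
  have h3 : ac (x * y) z0 = ac (y * x) z0 := by rw [hcomm]
  rw [ac_mul x y, ac_mul y x, y1 z0 hz0, y1 _ (Flag.perp xF hz0), ac_add, ac_smul, hxn, hux z0 hz0] at h3
  have h4 : (H.B u0 z0 * c) • v = 0 := by
    have h5 : ac x (ac x z0) + H.B u0 z0 • (n + c • v) - (ac x (ac x z0) + H.B u0 z0 • n) = 0 := by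
      rw [h3, sub_self]
    rw [← h5]
    module
  exact (mul_eq_zero.1 ((smul_eq_zero.1 h4).resolve_right hv0)).resolve_left hz0'

/-- conjugates satisfy the condition -/
theorem Cond.conj (hC : Cond H p x) {g : GL ι F} (hg : g ∈ H.E) : Cond H p (g * x * g⁻¹) := by
  intro h hh hpg
  have h1 : g⁻¹ * h * g ∈ H.E := mul_mem (mul_mem (inv_mem hg) hh) hg
  have e1 : (MulAut.conj g).toMonoidHom (g⁻¹ * h * g * x * (g⁻¹ * h * g)⁻¹) = h * (g * x * g⁻¹) * h⁻¹ := by
    simp only [MulEquiv.coe_toMonoidHom, MulAut.conj_apply]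
    group
  have e3 : (MulAut.conj g).toMonoidHom x = g * x * g⁻¹ := rfl
  have h3 : Subgroup.closure ({x, g⁻¹ * h * g * x * (g⁻¹ * h * g)⁻¹} : Set (GL ι F)) =
      (Subgroup.closure ({g * x * g⁻¹, h * (g * x * g⁻¹) * h⁻¹} : Set (GL ι F))).comap
        (MulAut.conj g).toMonoidHom := by
    rw [← e1, ← e3, ← Set.image_pair (MulAut.conj g).toMonoidHom, ← MonoidHom.map_closure,
      Subgroup.comap_map_eq_self_of_injective (MulAut.conj g).injective]
  have h4 := hC _ h1 (by
    rw [h3]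
    exact hpg.comap_of_injective _ (MulAut.conj g).injective)
  have h5 := congrArg (MulAut.conj g).toMonoidHom h4
  rw [map_mul _ x, map_mul _ _ x, e1, e3] at h5
  exact h5

/-- the adjoint of `x - 1` -/
theorem B_sub_act (hxO : x ∈ H.O) (u v : ι → F) :
    H.B (((x : Matrix ι ι F) - 1) *ᵥ u) (ac x v) = - H.B u (((x : Matrix ι ι F) - 1) *ᵥ v) := by
  rw [sub_one_mulVec, sub_one_mulVec, H.B_sub, H.B_sub']
  have h6 := H.B_act hxO u v
  change H.B (ac x u) (ac x v) = _ at h6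
  rw [h6]
  ring

theorem exists_fixed (h2 : (2 : F) ≠ 0) (hxO : x ∈ H.O) (hxp : x ^ p = 1) (hx1 : x ≠ 1) :
    ∃ v, v ≠ 0 ∧ H.Q v = 0 ∧ ac x v = v := by
  classical
  set M : Matrix ι ι F := (x : Matrix ι ι F) - 1 with hM
  have hex : ∃ k, M ^ k = 0 := ⟨p, by rw [hM, ← coe_pow_sub, hxp, Units.val_one, sub_self]⟩
  have hf := Nat.find_spec hex
  obtain ⟨k, hk⟩ : ∃ k, Nat.find hex = k + 2 := by
    have h0 : Nat.find hex ≠ 0 := by
      intro h
      rw [h, pow_zero] at hf
      apply hx1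
      apply ext_act
      intro v
      rw [← Matrix.one_mulVec v, hf, Matrix.zero_mulVec, Matrix.mulVec_zero, Matrix.mulVec_zero]
    have h1 : Nat.find hex ≠ 1 := by
      intro h
      rw [h, pow_one, hM, sub_eq_zero] at hf
      exact hx1 (Units.ext hf)
    exact ⟨Nat.find hex - 2, by omega⟩
  rw [hk] at hf
  have h3 : ¬ M ^ (k + 1) = 0 := Nat.find_min hex (by omega)
  have h4 : ∃ a, M ^ (k + 1) *ᵥ a ≠ 0 := by
    by_contra hcon
    push Not at hcon
    apply h3
    apply Matrix.ext_of_mulVec_single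
    intro i
    rw [hcon, Matrix.zero_mulVec]
  obtain ⟨a, ha⟩ := h4
  have hfix : ac x (M ^ (k + 1) *ᵥ a) = M ^ (k + 1) *ᵥ a := by
    have h5 : M *ᵥ (M ^ (k + 1) *ᵥ a) = 0 := by
      rw [Matrix.mulVec_mulVec, ← pow_succ', hf, Matrix.zero_mulVec]
    rw [hM, sub_one_mulVec, ← hM] at h5
    exact sub_eq_zero.1 h5
  refine ⟨M ^ (k + 1) *ᵥ a, ha, ?_, hfix⟩
  apply Q_of_B h2
  have e : M ^ (k + 1) *ᵥ a = M *ᵥ (M ^ k *ᵥ a) := by rw [pow_succ', ← Matrix.mulVec_mulVec]
  have h5 : H.B (M *ᵥ (M ^ k *ᵥ a)) (ac x (M ^ (k + 1) *ᵥ a)) = 0 := by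
    rw [hM, B_sub_act hxO, ← hM, Matrix.mulVec_mulVec, ← pow_succ', hf, Matrix.zero_mulVec, H.B_zero', neg_zero]
  rw [hfix, ← e] at h5
  exact h5

/-- **M2**, first part -/
theorem sq_mem (hp3 : 3 ≤ p) (h2 : (2 : F) ≠ 0) (hS : Sg H) (hC : Cond H p x) (hxO : x ∈ H.O)
    (hxp : x ^ p = 1) {v : ι → F} (hv0 : v ≠ 0) (hv : H.Q v = 0) (hxv : ac x v = v) {u : ι → F}
    (hu : H.B v u = 0) : ∃ c : F, ac x (ac x u) - ac x u = ac x u - u + c • v := by
  have hvv := of_Q_zero hv
  have hBx : ∀ z, H.B v (ac x z) = H.B v z := by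
    intro z
    have h := H.B_act hxO v z
    change H.B (ac x v) (ac x z) = _ at h
    rwa [hxv] at h
  set E : Submodule F (ι → F) := Submodule.span F {v} with hEdef
  have vE : v ∈ E := Submodule.mem_span_singleton_self _
  have hE : ∀ a ∈ E, Perp H E a := by
    intro a ha b hb
    obtain ⟨r, rfl⟩ := Submodule.mem_span_singleton.1 ha
    obtain ⟨s, rfl⟩ := Submodule.mem_span_singleton.1 hb
    rw [H.B_smul, H.B_smul', hvv]
    ring
  have xE : ∀ a ∈ E, ac x a = a := by
    intro a ha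
    obtain ⟨r, rfl⟩ := Submodule.mem_span_singleton.1 ha
    rw [ac_smul, hxv]
  have xF : x ∈ Flag H E E E le_rfl le_rfl := by
    refine ⟨hxO, fun a ha => ?_, fun a ha => ?_, xE⟩
    · rw [xE a ha, sub_self]; exact zero_mem _
    · rw [xE a ha, sub_self]; exact zero_mem _
  have hu' : H.B v (-u) = 0 := by rw [H.B_neg', hu, neg_zero]
  set g := H.sieg v u hv hu with hg
  have hin : g⁻¹ = H.sieg v (-u) hv hu' := by
    rw [hg, inv_eq_iff_mul_eq_one, H.sieg_mul hv hu hu' (by rw [add_neg_cancel, H.B_zero'])]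
    apply ext_act
    intro v
    rw [H.sieg_act, add_neg_cancel, H.sgl_zero, act_one]
  have gE : g ∈ H.E := hS _ _ _ _
  have gT : g ∈ TE H E := sieg_mem_TE hE vE hv hu
  have g1 : ∀ z, ∃ r : F, ac g z = z + H.B v z • u + r • v := by
    intro z
    refine ⟨-H.B u z - H.Q u * H.B v z, ?_⟩
    show (g : Matrix ι ι F) *ᵥ z = _
    rw [hg, H.sieg_act, H.sgl_def]
    module
  have g2 : ∀ z, ∃ r : F, ac g⁻¹ z = z - H.B v z • u + r • v := by
    intro z
    refine ⟨-H.B (-u) z - H.Q (-u) * H.B v z, ?_⟩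
    show ((g⁻¹ : GL ι F) : Matrix ι ι F) *ᵥ z = _
    rw [hin, H.sieg_act, H.sgl_def]
    module
  set y := g * x * g⁻¹ with hy
  have y1 : ∀ z, ∃ r : F, ac y z = ac x z - H.B v z • (ac x u - u) + r • v := by
    intro z
    obtain ⟨r1, hr1⟩ := g2 z
    obtain ⟨r2, hr2⟩ := g1 (ac x (ac g⁻¹ z))
    have e1 : H.B v (ac x (ac g⁻¹ z)) = H.B v z := by
      rw [hBx, hr1, H.B_add', H.B_sub', H.B_smul', H.B_smul', hu, hvv]
      ring
    refine ⟨r1 + r2, ?_⟩
    rw [hy, ac_mul, ac_mul, hr2, e1, hr1, ac_add, ac_sub, ac_smul, ac_smul, hxv]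
    module
  have yE : ∀ a ∈ E, ac y a = a := by
    intro a ha
    have h3 : ac g⁻¹ a = a := by
      obtain ⟨r, rfl⟩ := Submodule.mem_span_singleton.1 ha
      rw [ac_smul]
      congr 1
      show ((g⁻¹ : GL ι F) : Matrix ι ι F) *ᵥ v = _
      rw [hin, H.sieg_act, H.sgl_def, hvv, H.B_comm, hu']
      simp
    have h4 : ac g a = a := by
      conv_lhs => rw [← h3]
      rw [ac_inv']
    rw [hy, ac_mul, ac_mul, h3, xE a ha, h4]
  have yF : y ∈ Flag H E E E le_rfl le_rfl := by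
    refine ⟨mul_mem (mul_mem gT.1 hxO) (inv_mem gT.1), fun a ha => ?_, fun a ha => ?_, yE⟩
    · rw [yE a ha, sub_self]; exact zero_mem _
    · rw [yE a ha, sub_self]; exact zero_mem _
  have hpg : IsPGroup p (Subgroup.closure ({x, y} : Set (GL ι F))) :=
    isPGroup hp3 xF hxp hE yF fun z hz => conj_like gT xF hz
  have hcomm : x * y = y * x := hC g gE hpg
  obtain ⟨z, hz⟩ : ∃ z, H.B v z = 1 := by
    by_contra hcon
    push Not at hcon
    apply hv0
    apply nd H h2
    intro z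
    by_contra hz
    apply hcon ((H.B v z)⁻¹ • z)
    rw [H.B_smul', inv_mul_cancel₀ hz]
  have h3 : ac (x * y) z = ac (y * x) z := by rw [hcomm]
  obtain ⟨r1, hr1⟩ := y1 z
  obtain ⟨r2, hr2⟩ := y1 (ac x z)
  rw [ac_mul x y, ac_mul y x, hr1, hr2, hBx, hz, ac_add, ac_sub, ac_smul, ac_smul, hxv, ac_sub, one_smul,
    one_smul] at h3
  refine ⟨r1 - r2, ?_⟩
  have h5 : ac x (ac x z) - (ac x (ac x u) - ac x u) + r1 • v - (ac x (ac x z) - (ac x u - u) + r2 • v) = 0 := by
    rw [h3, sub_self]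
  rw [← sub_eq_zero, ← neg_eq_zero, ← h5]
  module

theorem isotropic (h2 : (2 : F) ≠ 0) (hxO : x ∈ H.O) {v : ι → F} (hxv : ac x v = v) {u : ι → F}
    (hu : H.B v u = 0) {c : F} (hc : ac x (ac x u) - ac x u = ac x u - u + c • v) :
    H.B (ac x u - u) u = 0 ∧ H.Q (ac x u - u) = 0 ∧ H.B v (ac x u - u) = 0 := by
  have hBx : ∀ z, H.B v (ac x z) = H.B v z := by
    intro z
    have h := H.B_act hxO v z
    change H.B (ac x v) (ac x z) = _ at h
    rwa [hxv] at h
  have h3 : H.B (ac x (ac x u)) (ac x u) = H.B (ac x u) u := H.B_act hxO _ _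
  have h4 : H.B (ac x u) (ac x u) = H.B u u := H.B_act hxO _ _
  have h5 : ac x (ac x u) = 2 • ac x u - u + c • v := by
    rw [sub_eq_iff_eq_add] at hc
    rw [hc]
    module
  rw [h5, H.B_add, H.B_sub, H.B_smul, hBx, hu, two_smul, H.B_add, h4] at h3
  have h6 : H.B (ac x u) u = H.B u u := by
    have h7 : 2 * (H.B (ac x u) u - H.B u u) = 0 := by
      rw [H.B_comm u (ac x u)] at h3
      linear_combination -h3
    exact sub_eq_zero.1 ((mul_eq_zero.1 h7).resolve_left h2)
  refine ⟨by rw [H.B_sub, h6, sub_self], Q_of_B h2 ?_, by rw [H.B_sub', hBx, sub_self]⟩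
  rw [H.B_sub, H.B_sub', H.B_sub', h4, H.B_comm u (ac x u), h6]
  ring

theorem li3 {a b c : ι → F} (h : ∀ r s t : F, r • a + s • b + t • c = 0 → r = 0 ∧ s = 0 ∧ t = 0) :
    LinearIndependent F ![a, b, c] := by
  rw [Fintype.linearIndependent_iff]
  intro g hg
  rw [Fin.sum_univ_three] at hg
  obtain ⟨h1, h2, h3⟩ := h _ _ _ hg
  intro i
  fin_cases i
  · exact h1
  · exact h2
  · exact h3

/-- **M2**, second part -/
theorem sub_mem_of_singular (hp3 : 3 ≤ p) (h2 : (2 : F) ≠ 0) (hS : Sg H) (hC : Cond H p x) (hxO : x ∈ H.O)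
    (hxp : x ^ p = 1) (hcard : 7 ≤ Fintype.card ι) {v : ι → F} (hv0 : v ≠ 0) (hv : H.Q v = 0)
    (hxv : ac x v = v) {w : ι → F}
    (hvw : H.B v w = 0) (hw : H.Q w = 0) : ∃ c : F, ac x w - w = c • v := by
  obtain ⟨c, hc⟩ := sq_mem hp3 h2 hS hC hxO hxp hv0 hv hxv hvw
  obtain ⟨h3, h4, h5⟩ := isotropic h2 hxO hxv hvw hc
  by_contra hcon
  push Not at hcon
  set n := ac x w - w with hn
  have hxn : ac x n = n + c • v := by
    rw [← hc, hn, ac_sub]
  have hxw : ac x w = w + n := by rw [hn]; abel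
  have hc0 := quad hp3 h2 hS hC hxO hxp hcard hv0 hv h4 hw h5 hvw h3 hxv hxn hxw
  rw [hc0, zero_smul, add_zero] at hxn
  refine false_of_transvection hp3 h2 hS hC hxO hxp (li3 ?_) hv h4 hw h5 hvw h3 hxv hxn hxw
  intro r s t hr
  have h6 := congrArg (ac x) hr
  rw [ac_zero, ac_add, ac_add, ac_smul, ac_smul, ac_smul, hxv, hxn, hxw] at h6
  have h7 : t • n = 0 := by
    have : t • n = r • v + s • n + t • (w + n) - (r • v + s • n + t • w) := by module
    rw [this, h6, hr, sub_self]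
  have hn0 : n ≠ 0 := fun h => hcon 0 (by rw [h, zero_smul])
  have ht : t = 0 := (smul_eq_zero.1 h7).resolve_right hn0
  rw [ht, zero_smul, add_zero] at hr
  have hs : s = 0 := by
    by_contra hs
    apply hcon (-(s⁻¹ * r))
    have : n = s⁻¹ • (r • v + s • n) - (s⁻¹ * r) • v := by
      rw [smul_add, smul_smul, smul_smul, inv_mul_cancel₀ hs]
      module
    rw [this, hr]
    module
  rw [hs, zero_smul, add_zero] at hr
  exact ⟨(smul_eq_zero.1 hr).resolve_right hv0, hs, ht⟩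

/-- **M2**, third part -/
theorem sub_mem {k l : ι} (hk : k ∈ H.P) (hl : l ∈ H.P) (hlk : l ≠ k) (hlk' : l ≠ H.bar k)
    (hp3 : 3 ≤ p) (h2 : (2 : F) ≠ 0) (hC : Cond H p x) (hxO : x ∈ H.O)
    (hxp : x ^ p = 1) (hcard : 7 ≤ Fintype.card ι) 
    (hxv : ac x (Pi.single k 1) = Pi.single k 1) {w : ι → F}
    (hvw : H.B (Pi.single k 1) w = 0) : ∃ c : F, ac x w - w = c • (Pi.single k 1 : ι → F) := by
  have hS : Sg H := fun e u he hu => H.sieg_mem_E hk hl hlk hlk' he hu
  have hv0 : (Pi.single k 1 : ι → F) ≠ 0 := by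
    intro h
    have := congrFun h k
    simp at this
  have hv := H.Q_single k hk
  have hlb := H.bar_mem l hl
  have hkl : H.bar k ≠ l := hlk'.symm
  have hkl2 : H.bar k ≠ H.bar l := by
    intro h
    apply hlk
    rw [← H.bar_bar l hl, ← h, H.bar_bar k hk]
  have e1 : H.B (Pi.single k 1) (Pi.single l 1) = 0 := by
    rw [H.B_single k hk, Pi.single_apply, if_neg hkl]
  have e2 : H.B (Pi.single k 1) (Pi.single (H.bar l) 1) = 0 := by
    rw [H.B_single k hk, Pi.single_apply, if_neg hkl2]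
  have e3 : H.B (Pi.single l 1) (Pi.single (H.bar l) 1) = 1 := by
    rw [H.B_single l hl, Pi.single_eq_same]
  set e : ι → F := Pi.single l 1 with he
  set f : ι → F := Pi.single (H.bar l) 1 with hf
  set t : F := 1 - H.B w e with ht
  set s : F := -(H.Q w + t * H.B w f) with hs
  have hQz : H.Q (w + s • e + t • f) = 0 := by
    rw [H.Q_add, H.Q_add, H.Q_smul, H.Q_smul, H.B_add, H.B_smul, H.B_smul', H.B_smul', H.B_smul', e3,
      H.Q_single l hl, H.Q_single _ hlb, hs, ht]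
    ring
  have key := fun (z : ι → F) hz1 hz2 =>
    sub_mem_of_singular hp3 h2 hS hC hxO hxp hcard hv0 hv hxv (w := z) hz1 hz2
  obtain ⟨c1, h1⟩ := key (w + s • e + t • f) (by
    rw [H.B_add', H.B_add', H.B_smul', H.B_smul', e1, e2, hvw]; ring) hQz
  obtain ⟨c2, h3⟩ := key e e1 (H.Q_single l hl)
  obtain ⟨c3, h4⟩ := key f e2 (H.Q_single _ hlb)
  refine ⟨c1 - s * c2 - t * c3, ?_⟩
  rw [ac_add, ac_add, ac_smul, ac_smul] at h1
  rw [sub_smul, sub_smul, mul_smul, mul_smul, ← h1, ← h3, ← h4]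
  module

/-- **M3** -/
theorem act_eq {k l m : ι} (hk : k ∈ H.P) (hl : l ∈ H.P) (hm : m ∈ H.P) (hlk : l ≠ k) (hlk' : l ≠ H.bar k)
    (hmk : m ≠ k) (hmk' : m ≠ H.bar k) (hml : m ≠ l) (hml' : m ≠ H.bar l)
    (hp3 : 3 ≤ p) (h2 : (2 : F) ≠ 0) (hC : Cond H p x) (hxO : x ∈ H.O)
    (hxp : x ^ p = 1) (hcard : 7 ≤ Fintype.card ι)
    (hxv : ac x (Pi.single k 1) = Pi.single k 1) {w : ι → F}
    (hvw : H.B (Pi.single k 1) w = 0) (hw : H.Q w = 0) : ac x w = w := by
  have hS : Sg H := fun e u he hu => H.sieg_mem_E hk hl hlk hlk' he hu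
  set v : ι → F := Pi.single k 1 with hvdef
  have hv0 : v ≠ 0 := by
    intro h
    have := congrFun h k
    simp [hvdef] at this
  have hv : H.Q v = 0 := H.Q_single k hk
  have hvv := of_Q_zero hv
  obtain ⟨α, hα⟩ := sub_mem hk hl hlk hlk' hp3 h2 hC hxO hxp hcard hxv hvw
  change ac x w - w = α • v at hα
  by_contra hcon
  have hα0 : α ≠ 0 := by
    rintro rfl
    rw [zero_smul, sub_eq_zero] at hα
    exact hcon hα
  -- the normalized vector
  set w' := w - w k • v with hw'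
  have hvw' : H.B v w' = 0 := by rw [hw', H.B_sub', H.B_smul', hvw, hvv]; ring
  have hQw' : H.Q w' = 0 := by
    rw [hw', H.Q_sub, H.Q_smul, H.B_smul', hw, hv, H.B_comm, hvw]; ring
  have hxw' : ac x w' = w' + α • v := by
    rw [hw', ac_sub, ac_smul, hxv, ← hα]; abel
  have hw'0 : w' ≠ 0 := by
    intro h
    rw [h, ac_zero, zero_add] at hxw'
    exact (smul_ne_zero hα0 hv0) hxw'.symm
  have hkb := H.bar_mem k hk
  have hkk := H.bar_ne k hk
  have hcl : H.Closed ({k, H.bar k} : Set ι) := by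
    intro s hs
    rcases hs with rfl | hs
    · exact ⟨hk, Or.inr rfl⟩
    · rw [Set.mem_singleton_iff] at hs
      subst hs
      exact ⟨hkb, Or.inl (H.bar_bar k hk)⟩
  have hlS : l ∉ ({k, H.bar k} : Set ι) := by
    rintro (h | h)
    · exact hlk h
    · exact hlk' h
  have hmS : m ∉ ({k, H.bar k} : Set ι) := by
    rintro (h | h)
    · exact hmk h
    · exact hmk' h
  have hw'S : ∀ s ∈ ({k, H.bar k} : Set ι), w' s = 0 := by
    rintro s (rfl | hs)
    · simp [hw', hvdef]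
    · rw [Set.mem_singleton_iff] at hs
      subst hs
      rw [← H.B_single k hk w']
      exact hvw'
  obtain ⟨g, hg, hgw⟩ := H.exists_transitive hcl hl hlS hm hmS hml hml' hw'S hQw' hw'0
  have hgv : ac g v = v := H.ES_fix hcl hg (Or.inl rfl)
  have hgO : g ∈ H.O := H.ES_le_O _ hg
  have hgi : g⁻¹ ∈ H.O := inv_mem hgO
  set u := ac g⁻¹ (Pi.single m 1) with hu
  have hgv' : ac g⁻¹ v = v := by
    conv_lhs => rw [← hgv]
    rw [ac_inv]
  have hgw' : ac g⁻¹ (Pi.single l 1) = w' := by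
    rw [← hgw]
    exact ac_inv g w'
  have hkm : H.bar k ≠ m := hmk'.symm
  have hlm : H.bar l ≠ m := hml'.symm
  have hvu : H.B v u = 0 := by
    rw [← hgv', hu]
    have := H.B_act hgi v (Pi.single m 1)
    rw [show H.B (ac g⁻¹ v) (ac g⁻¹ (Pi.single m 1)) = H.B v (Pi.single m 1) from this, hvdef,
      H.B_single k hk, Pi.single_apply, if_neg hkm]
  have hwu : H.B w' u = 0 := by
    rw [← hgw', hu]
    have := H.B_act hgi (Pi.single l 1) (Pi.single m 1)
    rw [show H.B (ac g⁻¹ (Pi.single l 1)) (ac g⁻¹ (Pi.single m 1)) = H.B (Pi.single l 1) (Pi.single m 1) from this,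
      H.B_single l hl, Pi.single_apply, if_neg hlm]
  have hQu : H.Q u = 0 := by
    have := H.mem_O.1 hgi (Pi.single m 1)
    rw [H.Q_single m hm] at this
    exact this
  obtain ⟨β, hβ⟩ := sub_mem hk hl hlk hlk' hp3 h2 hC hxO hxp hcard hxv hvu
  change ac x u - u = β • v at hβ
  have hxu : ac x u = u + β • v := by rw [← hβ]; abel
  set v' := u - (β / α) • w' with hv'
  have hxv' : ac x v' = v' := by
    rw [hv', ac_sub, ac_smul, hxu, hxw', smul_add, smul_smul, div_mul_cancel₀ _ hα0]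
    abel
  have hww' := of_Q_zero hQw'
  have huv : H.B u v = 0 := by rw [H.B_comm, hvu]
  have huw : H.B u w' = 0 := by rw [H.B_comm, hwu]
  have hw'v : H.B w' v = 0 := by rw [H.B_comm, hvw']
  refine false_of_transvection hp3 h2 hS hC hxO hxp (v := v') (n := α • v) (w := w') (li3 ?_) ?_ ?_ hQw' ?_ ?_ ?_
    hxv' (by rw [ac_smul, hxv]) hxw'
  · intro r s t hr
    have h6 := congrArg (ac g) hr
    have hgu : ac g u = Pi.single m 1 := by rw [hu, ac_inv']
    have hgw2 : ac g w' = Pi.single l 1 := hgw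
    rw [ac_zero, ac_add, ac_add, ac_smul, ac_smul, ac_smul, ac_smul, hv', ac_sub, ac_smul, hgu, hgw2, hgv] at h6
    have h7 := congrFun h6 m
    simp only [Pi.add_apply, Pi.sub_apply, Pi.smul_apply, smul_eq_mul, hvdef, Pi.single_apply, if_neg hmk,
      if_neg hml, Pi.zero_apply, if_true] at h7
    have hr0 : r = 0 := by simpa using h7
    have h8 := congrFun h6 k
    simp only [Pi.add_apply, Pi.sub_apply, Pi.smul_apply, smul_eq_mul, hvdef, Pi.single_apply, if_neg hmk.symm,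
      if_neg hlk.symm, Pi.zero_apply, if_true, hr0] at h8
    have hs0 : s = 0 := by
      have : s * α = 0 := by simpa using h8
      exact (mul_eq_zero.1 this).resolve_right hα0
    have h9 := congrFun h6 l
    simp only [Pi.add_apply, Pi.sub_apply, Pi.smul_apply, smul_eq_mul, hvdef, Pi.single_apply, if_neg hml.symm,
      if_neg hlk, Pi.zero_apply, if_true, hr0, hs0] at h9
    exact ⟨hr0, hs0, by simpa using h9⟩
  · rw [hv', H.Q_sub, H.Q_smul, H.B_smul', hQu, hQw', huw]; ring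
  · rw [H.Q_smul, hv, mul_zero]
  · rw [hv', H.B_smul', H.B_sub, H.B_smul, huv, hw'v]; ring
  · rw [hv', H.B_sub, H.B_smul, huw, hww']; ring
  · rw [H.B_smul, hvw', mul_zero]

/-- **M4** -/
theorem eq_one_of_fix {k l m : ι} (hk : k ∈ H.P) (hl : l ∈ H.P) (hm : m ∈ H.P) (hlk : l ≠ k)
    (hlk' : l ≠ H.bar k)
    (hmk : m ≠ k) (hmk' : m ≠ H.bar k) (hml : m ≠ l) (hml' : m ≠ H.bar l)
    (hp3 : 3 ≤ p) (h2 : (2 : F) ≠ 0) (hC : Cond H p x) (hxO : x ∈ H.O)
    (hxp : x ^ p = 1) (hcard : 7 ≤ Fintype.card ι)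
    (hxv : ac x (Pi.single k 1) = Pi.single k 1) : x = 1 := by
  have hlb := H.bar_mem l hl
  have hkb := H.bar_mem k hk
  have hkl : H.bar k ≠ l := hlk'.symm
  have hkl2 : H.bar k ≠ H.bar l := by
    intro h
    apply hlk
    rw [← H.bar_bar l hl, ← h, H.bar_bar k hk]
  have e1 : H.B (Pi.single k 1) (Pi.single l 1) = 0 := by
    rw [H.B_single k hk, Pi.single_apply, if_neg hkl]
  have e2 : H.B (Pi.single k 1) (Pi.single (H.bar l) 1) = 0 := by
    rw [H.B_single k hk, Pi.single_apply, if_neg hkl2]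
  have e3 : H.B (Pi.single l 1) (Pi.single (H.bar l) 1) = 1 := by
    rw [H.B_single l hl, Pi.single_eq_same]
  have hvQ := H.Q_single k hk
  have hbQ := H.Q_single _ hkb
  have e4 : H.B (Pi.single k 1) (Pi.single (H.bar k) 1) = 1 := by
    rw [H.B_single k hk, Pi.single_eq_same]
  set v : ι → F := Pi.single k 1 with hvdef
  set a : ι → F := Pi.single (H.bar k) 1 with hadef
  have hvv := of_Q_zero hvQ
  -- `x` is trivial on `v^⊥`
  have key : ∀ w, H.B v w = 0 → ac x w = w := by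
    intro w hvw
    have key0 := fun (z : ι → F) (hz1 : H.B v z = 0) (hz2 : H.Q z = 0) =>
      act_eq hk hl hm hlk hlk' hmk hmk' hml hml' hp3 h2 hC hxO hxp hcard hxv (w := z) hz1 hz2
    set e : ι → F := Pi.single l 1 with he
    set f : ι → F := Pi.single (H.bar l) 1 with hf
    set t : F := 1 - H.B w e with ht
    set s : F := -(H.Q w + t * H.B w f) with hs
    have hQz : H.Q (w + s • e + t • f) = 0 := by
      rw [H.Q_add, H.Q_add, H.Q_smul, H.Q_smul, H.B_add, H.B_smul, H.B_smul', H.B_smul', H.B_smul', e3,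
        H.Q_single l hl, H.Q_single _ hlb, hs, ht]
      ring
    have h1 := key0 (w + s • e + t • f) (by
      rw [H.B_add', H.B_add', H.B_smul', H.B_smul', e1, e2, hvw]; ring) hQz
    rw [ac_add, ac_add, ac_smul, ac_smul, key0 e e1 (H.Q_single l hl), key0 f e2 (H.Q_single _ hlb)] at h1
    exact add_right_cancel (add_right_cancel h1)
  -- `x a = a`
  have hBx : ∀ z, H.B v z = 0 → H.B (ac x a - a) z = 0 := by
    intro z hz
    have h := H.B_act hxO a z
    change H.B (ac x a) (ac x z) = _ at h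
    rw [key z hz] at h
    rw [H.B_sub, h, sub_self]
  set y := ac x a - a with hy
  have h3 : ∀ z, H.B (y - H.B y a • v) z = 0 := by
    intro z
    have h4 := hBx (z - H.B v z • a) (by rw [H.B_sub', H.B_smul', e4]; ring)
    rw [H.B_sub', H.B_smul'] at h4
    rw [H.B_sub, H.B_smul]
    linear_combination h4
  have h4 : y = H.B y a • v := sub_eq_zero.1 (nd H h2 h3)
  have hxa : ac x a = a + H.B y a • v := by rw [← h4, hy]; abel
  have h5 : H.Q (ac x a) = H.Q a := H.mem_O.1 hxO a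
  have hxa' : ac x a = a := by
    rw [hxa, H.Q_add, H.Q_smul, H.B_smul', hvQ, H.B_comm a, e4] at h5
    have h6 : H.B y a = 0 := by linear_combination h5
    rw [hxa, h6, zero_smul, add_zero]
  apply ext_act
  intro z
  rw [act_one]
  have h6 : z = (z - H.B v z • a) + H.B v z • a := by abel
  have h7 := key (z - H.B v z • a) (by rw [H.B_sub', H.B_smul', e4]; ring)
  show ac x z = z
  conv_lhs => rw [h6]
  rw [ac_add, h7, ac_smul, hxa']
  abel

/-- **Main theorem.** -/
theorem eq_one {k l m : ι} (hk : k ∈ H.P) (hl : l ∈ H.P) (hm : m ∈ H.P) (hlk : l ≠ k)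
    (hlk' : l ≠ H.bar k)
    (hmk : m ≠ k) (hmk' : m ≠ H.bar k) (hml : m ≠ l) (hml' : m ≠ H.bar l)
    (hp3 : 3 ≤ p) (h2 : (2 : F) ≠ 0) (hcard : 7 ≤ Fintype.card ι) (hxO : x ∈ H.O)
    (hxp : x ^ p = 1) (hC : Cond H p x) : x = 1 := by
  by_contra hx1
  obtain ⟨v, hv0, hv, hxv⟩ := exists_fixed h2 hxO hxp hx1
  obtain ⟨g, hg, hgv⟩ := H.exists_transitive H.closed_empty hk (Set.notMem_empty k) hl
    (Set.notMem_empty l) hlk hlk' (v := v) (fun s hs => absurd hs (Set.notMem_empty s)) hv hv0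
  have hgO : g ∈ H.O := H.ES_le_O _ hg
  have h3 := eq_one_of_fix (x := g * x * g⁻¹) hk hl hm hlk hlk' hmk hmk' hml hml' hp3 h2 (hC.conj hg)
    (mul_mem (mul_mem hgO hxO) (inv_mem hgO)) (by rw [conj_pow, hxp, mul_one, mul_inv_cancel]) hcard (by
      have hgv' : ac g v = Pi.single k 1 := hgv
      rw [ac_mul, ac_mul, ← hgv', ac_inv, hxv])
  apply hx1
  rw [mul_inv_eq_one] at h3
  exact mul_eq_left.1 h3

end main

end Cfsg.Agent.H451.Tor.Orth
end

-- part: H451/Tor/OrthRows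
section
/-!
# The simple orthogonal groups in their own characteristic (for S3235)

If `a` is an element of order `p` of `PΩ_n(q)`, `n ≥ 7`, `q` a power of the odd prime `p`, then `a` does not commute
with one of its conjugates `b` for which `⟨a, b⟩` is a `p`-group.
-/

set_option autoImplicit false
set_option linter.unusedSectionVars false

namespace Cfsg.Agent.H451.Tor.Orth

open Cfsg Cfsg.Agent.ChevalleyStructure.OrthHyp
open scoped MatrixGroups Matrix

/-- `a` commutes with all its conjugates which generate a `p`-group with it. -/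
def PC (p : ℕ) {K : Type*} [Group K] (a : K) : Prop :=
  ∀ g : K, IsPGroup p (Subgroup.closure ({a, g * a * g⁻¹} : Set K)) → a * (g * a * g⁻¹) = g * a * g⁻¹ * a

theorem PC.of_equiv {p : ℕ} {K L : Type*} [Group K] [Group L] (e : K ≃* L) {a : K} (h : PC p a) :
    PC p (e a) := by
  intro g hg
  obtain ⟨g, rfl⟩ := e.surjective g
  rw [← map_inv, ← map_mul, ← map_mul, ← map_mul, ← map_mul]
  congr 1
  apply h
  have h1 : (Subgroup.closure ({a, g * a * g⁻¹} : Set K)).map e.toMonoidHom =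
      Subgroup.closure ({e a, e g * e a * (e g)⁻¹} : Set L) := by
    rw [MonoidHom.map_closure, Set.image_pair]
    simp only [_root_.MulEquiv.toMonoidHom_eq_coe, _root_.MonoidHom.coe_coe, _root_.map_mul, _root_.map_inv]
  rw [← h1] at hg
  exact hg.of_equiv ((Subgroup.closure ({a, g * a * g⁻¹} : Set K)).equivMapOfInjective e.toMonoidHom
    e.injective).symm

variable {ι : Type} [Fintype ι] [DecidableEq ι] {F : Type*} [Field F]
variable {H : HypForm ι F} {p : ℕ} [hp : Fact p.Prime] [CharP F p]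

theorem of_surj {k l m : ι} (hk : k ∈ H.P) (hl : l ∈ H.P) (hm : m ∈ H.P) (hlk : l ≠ k)
    (hlk' : l ≠ H.bar k)
    (hmk : m ≠ k) (hmk' : m ≠ H.bar k) (hml : m ≠ l) (hml' : m ≠ H.bar l)
    (hp3 : 3 ≤ p) (hcard : 7 ≤ Fintype.card ι) {K : Type*} [Group K] (π : Omega F H.Q →* K)
    (hπ : Function.Surjective π) (hker : ∀ z, π z = 1 → z ∈ Subgroup.center (Omega F H.Q)) {a : K}
    (hap : a ^ p = 1) (hPC : PC p a) : a = 1 := by
  have h2 : (2 : F) ≠ 0 := by
    intro h
    have h3 : (p : ℕ) ∣ 2 := (CharP.cast_eq_zero_iff F p 2).1 (by exact_mod_cast h)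
    have := Nat.le_of_dvd (by norm_num) h3
    omega
  have hodd : Odd p := hp.out.odd_of_ne_two (by omega)
  have hF : ∃ a : F, a ≠ 0 ∧ a ≠ 1 := by
    refine ⟨-1, neg_ne_zero.2 one_ne_zero, fun h => h2 ?_⟩
    rw [← one_add_one_eq_two]
    nth_rw 1 [← h]
    exact neg_add_cancel 1
  have hEO := H.le_commutator_of_field hF
  -- elements of the center are involutions
  have hZ : ∀ z ∈ Subgroup.center (Omega F H.Q), z ^ 2 = 1 := by
    intro z hz
    have h3 : ∀ e ∈ H.gens ∅, ((z : H.O) : GL ι F) * e = e * ((z : H.O) : GL ι F) := by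
      intro e he
      have heE : e ∈ H.E := Subgroup.subset_closure he
      let e' : Omega F H.Q := ⟨⟨e, H.E_le_O heE⟩, hEO (show (⟨e, H.E_le_O heE⟩ : H.O) ∈ H.EO from heE)⟩
      have h4 := Subgroup.mem_center_iff.1 hz e'
      have h5 := congrArg (fun y : Omega F H.Q => ((y : H.O) : GL ι F)) h4
      exact h5.symm
    obtain ⟨c, hc, hc'⟩ := H.scalar_of_commute hk hl hlk hlk' (g := ((z : H.O) : GL ι F)) (z : H.O).2 h3
    apply Subtype.ext
    apply Subtype.ext
    apply ext_act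
    intro v
    show (((((z : H.O) : GL ι F) ^ 2 : GL ι F)) : Matrix ι ι F) *ᵥ v = _
    rw [pow_two, act_mul, hc', hc', smul_smul, ← pow_two, hc, one_smul]
    exact (act_one v).symm
  obtain ⟨x', hx'⟩ := hπ a
  set x := x' ^ (p + 1) with hx
  have hπx : π x = a := by rw [hx, map_pow, hx', pow_succ, hap, one_mul]
  have hxp : x ^ p = 1 := by
    have h3 : x' ^ p ∈ Subgroup.center (Omega F H.Q) := hker _ (by rw [map_pow, hx', hap])
    obtain ⟨r, hr⟩ := hodd
    rw [hx, ← pow_mul, show (p + 1) * p = p * 2 * (r + 1) by rw [hr]; ring, pow_mul, pow_mul, hZ _ h3, one_pow]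
  have hC : Cond H p ((x : H.O) : GL ι F) := by
    intro g hg hpg
    let g' : Omega F H.Q := ⟨⟨g, H.E_le_O hg⟩, hEO (show (⟨g, H.E_le_O hg⟩ : H.O) ∈ H.EO from hg)⟩
    let φ : Omega F H.Q →* GL ι F := (Subgroup.subtype H.O).comp (Subgroup.subtype (Omega F H.Q))
    have hφ : Function.Injective φ := fun u v huv => Subtype.ext (Subtype.ext huv)
    have hg' : φ g' = g := rfl
    set y : Omega F H.Q := g' * x * g'⁻¹ with hy
    have hφy : φ y = g * φ x * g⁻¹ := by rw [hy, map_mul, map_mul, map_inv, hg']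
    have hcl : IsPGroup p (Subgroup.closure ({x, y} : Set (Omega F H.Q))) := by
      have h3 : (Subgroup.closure ({x, y} : Set (Omega F H.Q))).map φ =
          Subgroup.closure ({φ x, g * φ x * g⁻¹} : Set (GL ι F)) := by
        rw [MonoidHom.map_closure, Set.image_pair, hφy]
      have h4 : IsPGroup p ((Subgroup.closure ({x, y} : Set (Omega F H.Q))).map φ) := by
        rw [h3]; exact hpg
      exact h4.of_equiv ((Subgroup.closure ({x, y} : Set (Omega F H.Q))).equivMapOfInjective φ hφ).symm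
    have hcl' : IsPGroup p (Subgroup.closure ({a, π g' * a * (π g')⁻¹} : Set K)) := by
      have h3 : (Subgroup.closure ({x, y} : Set (Omega F H.Q))).map π =
          Subgroup.closure ({a, π g' * a * (π g')⁻¹} : Set K) := by
        rw [MonoidHom.map_closure, Set.image_pair, hπx, hy, map_mul, map_mul, map_inv, hπx]
      rw [← h3]
      exact hcl.map π
    have h3 := hPC (π g') hcl'
    rw [← hπx, ← map_inv, ← map_mul, ← map_mul, ← map_mul, ← map_mul, ← hy] at h3
    have h4 : (x * y) * (y * x)⁻¹ ∈ Subgroup.center (Omega F H.Q) := hker _ (by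
      rw [map_mul, h3, ← map_mul, mul_inv_cancel, map_one])
    have h5 := hZ _ h4
    have hxm : x ∈ Subgroup.closure ({x, y} : Set (Omega F H.Q)) := Subgroup.subset_closure (by simp)
    have hym : y ∈ Subgroup.closure ({x, y} : Set (Omega F H.Q)) := Subgroup.subset_closure (by simp)
    have h6 : (x * y) * (y * x)⁻¹ ∈ Subgroup.closure ({x, y} : Set (Omega F H.Q)) :=
      mul_mem (mul_mem hxm hym) (inv_mem (mul_mem hym hxm))
    obtain ⟨r, hr⟩ := hcl ⟨_, h6⟩
    have h7 : ((x * y) * (y * x)⁻¹) ^ p ^ r = 1 := congrArg Subtype.val hr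
    have h8 : (x * y) * (y * x)⁻¹ = 1 := by
      have h9 := (hodd.pow (n := r))
      obtain ⟨s, hs⟩ := h9
      rw [hs, pow_succ, pow_mul, h5, one_pow, one_mul] at h7
      exact h7
    have h9 := congrArg φ (mul_inv_eq_one.1 h8)
    rw [map_mul φ x y, map_mul φ y x, hφy] at h9
    exact h9
  have h3 := eq_one hk hl hm hlk hlk' hmk hmk' hml hml' hp3 h2 hcard (x := ((x : H.O) : GL ι F)) (x : H.O).2
    (congrArg (fun y : Omega F H.Q => ((y : H.O) : GL ι F)) hxp) hC
  have h4 : x = 1 := Subtype.ext (Subtype.ext h3)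
  rw [← hπx, h4, map_one]

theorem of_pomega {k l m : ι} (hk : k ∈ H.P) (hl : l ∈ H.P) (hm : m ∈ H.P) (hlk : l ≠ k)
    (hlk' : l ≠ H.bar k)
    (hmk : m ≠ k) (hmk' : m ≠ H.bar k) (hml : m ≠ l) (hml' : m ≠ H.bar l)
    (hp3 : 3 ≤ p) (hcard : 7 ≤ Fintype.card ι) {K : Type*} [Group K] (e : K ≃* POmega F H.Q) {a : K}
    (hap : a ^ p = 1) (hPC : PC p a) : a = 1 := by
  have h1 : e a = 1 := of_surj hk hl hm hlk hlk' hmk hmk' hml hml' hp3 hcard
    (QuotientGroup.mk' (Subgroup.center (Omega F H.Q))) (QuotientGroup.mk'_surjective _)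
    (fun z hz => (QuotientGroup.eq_one_iff z).1 hz) (by rw [← map_pow, hap, map_one]) (hPC.of_equiv e)
  exact e.injective (by rw [h1, map_one])

/-- `quadFormMinus n F a b` as a `HypForm`. -/
def minusForm (n : ℕ) (F : Type*) [Field F] (a b : F)
    (hab : ∀ z₁ z₂ : F, z₁ ^ 2 + a * z₁ * z₂ + b * z₂ ^ 2 = 0 → z₁ = 0 ∧ z₂ = 0) :
    HypForm ((Fin n ⊕ Fin n) ⊕ Fin 2) F where
  Q := Cfsg.quadFormMinus n F a b
  B u v := (∑ i : Fin n, (u (.inl (.inl i)) * v (.inl (.inr i)) + u (.inl (.inr i)) * v (.inl (.inl i)))) +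
    (2 * (u (.inr 0) * v (.inr 0)) + a * (u (.inr 0) * v (.inr 1) + u (.inr 1) * v (.inr 0)) +
      2 * b * (u (.inr 1) * v (.inr 1)))
  P := Set.range Sum.inl
  bar := Sum.elim (fun i => Sum.inl (Sum.elim Sum.inr Sum.inl i)) Sum.inr
  Q_add u v := by
    simp only [Cfsg.quadFormMinus, Pi.add_apply]
    have : ∑ i : Fin n, (u (.inl (.inl i)) + v (.inl (.inl i))) * (u (.inl (.inr i)) + v (.inl (.inr i))) =
        ∑ i : Fin n, u (.inl (.inl i)) * u (.inl (.inr i)) + ∑ i : Fin n, v (.inl (.inl i)) * v (.inl (.inr i)) +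
        ∑ i : Fin n, (u (.inl (.inl i)) * v (.inl (.inr i)) + u (.inl (.inr i)) * v (.inl (.inl i))) := by
      simp only [← Finset.sum_add_distrib]
      exact Finset.sum_congr rfl fun i _ => by ring
    rw [this]
    ring
  Q_smul c v := by
    simp only [Cfsg.quadFormMinus, Pi.smul_apply, smul_eq_mul, mul_add, Finset.mul_sum]
    congr 1
    · exact Finset.sum_congr rfl fun i _ => by ring
    · ring
  B_add u v w := by
    simp only [Pi.add_apply]
    have : ∑ i : Fin n, ((u (.inl (.inl i)) + v (.inl (.inl i))) * w (.inl (.inr i)) +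
        (u (.inl (.inr i)) + v (.inl (.inr i))) * w (.inl (.inl i))) =
        ∑ i : Fin n, (u (.inl (.inl i)) * w (.inl (.inr i)) + u (.inl (.inr i)) * w (.inl (.inl i))) +
        ∑ i : Fin n, (v (.inl (.inl i)) * w (.inl (.inr i)) + v (.inl (.inr i)) * w (.inl (.inl i))) := by
      simp only [← Finset.sum_add_distrib]
      exact Finset.sum_congr rfl fun i _ => by ring
    rw [this]
    ring
  B_smul c u v := by
    simp only [Pi.smul_apply, smul_eq_mul, mul_add, Finset.mul_sum]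
    congr 1
    · exact Finset.sum_congr rfl fun i _ => by ring
    · ring
  B_comm u v := by
    congr 1
    · exact Finset.sum_congr rfl fun i _ => by ring
    · ring
  bar_mem i hi := by
    obtain ⟨i, rfl⟩ := hi
    exact ⟨_, rfl⟩
  bar_bar i hi := by
    obtain ⟨i | i, rfl⟩ := hi <;> rfl
  bar_ne i hi := by
    obtain ⟨i | i, rfl⟩ := hi <;> simp
  Q_single i hi := by
    obtain ⟨i | i, rfl⟩ := hi <;> simp [Cfsg.quadFormMinus, Pi.single_apply]
  B_single i hi v := by
    obtain ⟨i | i, rfl⟩ := hi <;> simp only [Pi.single_apply, _root_.Sum.inl.injEq, _root_.ite_mul, _root_.one_mul, _root_.MulZeroClass.zero_mul, _root_.ne_eq, _root_.reduceCtorEq, _root_.not_false_eq_true, _root_.Pi.single_eq_of_ne, _root_.add_zero, _root_.Finset.sum_ite_eq', _root_.Finset.mem_univ, ↓ _root_.reduceIte, _root_.Fin.isValue, _root_.MulZeroClass.mul_zero, _root_.Sum.elim_inl, _root_.Sum.inr.injEq, _root_.zero_add, _root_.Sum.elim_inr]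
  aniso v hv hQ := by
    have h1 : ∀ i, v (.inl i) = 0 := fun i => hv (.inl i) ⟨i, rfl⟩
    have h2 : v (.inr 0) = 0 ∧ v (.inr 1) = 0 := by
      apply hab
      simpa only [Cfsg.quadFormMinus, h1, _root_.Fin.isValue, _root_.MulZeroClass.mul_zero, _root_.Finset.sum_const_zero, _root_.zero_add] using hQ
    funext i
    rcases i with i | i
    · exact h1 i
    · fin_cases i
      · exact h2.1
      · exact h2.2

/-- **The orthogonal groups.** -/
theorem of_odd (hp3 : 3 ≤ p) (n : ℕ) (hn : 3 ≤ n) {K : Type*} [Group K]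
    (e : K ≃* POmega F (quadFormOdd n F)) {a : K} (hap : a ^ p = 1) (hPC : PC p a) : a = 1 := by
  refine of_pomega (H := oddForm n F) (k := .inr (.inl ⟨0, by omega⟩)) (l := .inr (.inl ⟨1, by omega⟩))
      (m := .inr (.inl ⟨2, by omega⟩)) ?_ ?_ ?_ ?_ ?_ ?_ ?_ ?_ ?_ hp3 ?_ e hap hPC
  any_goals simp only [oddForm, _root_.ne_eq, _root_.Set.mem_ofPred_eq, _root_.reduceCtorEq, _root_.not_false_eq_true, _root_.Sum.inr.injEq, _root_.Sum.inl.injEq, _root_.Fin.mk.injEq, _root_.one_ne_zero, _root_.Sum.elim_inr, _root_.Sum.elim_inl, _root_.OfNat.ofNat_ne_zero, _root_.OfNat.ofNat_ne_one, _root_.Fintype.card_sum, _root_.Fintype.card_unique, _root_.Fintype.card_fin]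
  omega

theorem of_plus (hp3 : 3 ≤ p) (n : ℕ) (hn : 4 ≤ n) {K : Type*} [Group K]
    (e : K ≃* POmega F (quadFormPlus n F)) {a : K} (hap : a ^ p = 1) (hPC : PC p a) : a = 1 := by
  refine of_pomega (H := plusForm n F) (k := .inl ⟨0, by omega⟩) (l := .inl ⟨1, by omega⟩)
      (m := .inl ⟨2, by omega⟩) ?_ ?_ ?_ ?_ ?_ ?_ ?_ ?_ ?_ hp3 ?_ e hap hPC
  any_goals simp only [plusForm, _root_.Set.mem_univ, _root_.ne_eq, _root_.Sum.inl.injEq, _root_.Fin.mk.injEq, _root_.one_ne_zero, _root_.not_false_eq_true, _root_.Sum.elim_inl, _root_.reduceCtorEq, _root_.OfNat.ofNat_ne_zero, _root_.OfNat.ofNat_ne_one, _root_.Fintype.card_sum, _root_.Fintype.card_fin]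
  omega

theorem of_minus (hp3 : 3 ≤ p) (n : ℕ) (hn : 3 ≤ n) {a b : F}
    (hab : ∀ z₁ z₂ : F, z₁ ^ 2 + a * z₁ * z₂ + b * z₂ ^ 2 = 0 → z₁ = 0 ∧ z₂ = 0) {K : Type*} [Group K]
    (e : K ≃* POmega F (quadFormMinus n F a b)) {x : K} (hap : x ^ p = 1) (hPC : PC p x) : x = 1 := by
  refine of_pomega (H := minusForm n F a b hab) (k := .inl (.inl ⟨0, by omega⟩)) (l := .inl (.inl ⟨1, by omega⟩))
      (m := .inl (.inl ⟨2, by omega⟩)) ?_ ?_ ?_ ?_ ?_ ?_ ?_ ?_ ?_ hp3 ?_ e hap hPC
  any_goals simp only [minusForm, _root_.Fin.isValue, _root_.Set.mem_range, _root_.Sum.inl.injEq, _root_.exists_eq, _root_.ne_eq, _root_.Fin.mk.injEq, _root_.one_ne_zero, _root_.not_false_eq_true, _root_.Sum.elim_inl, _root_.reduceCtorEq, _root_.OfNat.ofNat_ne_zero, _root_.OfNat.ofNat_ne_one, _root_.Fintype.card_sum, _root_.Fintype.card_fin, _root_.Nat.reduceLeDiff]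
  omega

/-- All orthogonal groups of the list. -/
theorem of_isPOmega (hp5 : 3 ≤ p) {K : Type*} [Group K] (hK : ∃ (F : Type) (_ : Field F) (_ : Fintype F),
    CharP F p ∧ ((∃ m, 3 ≤ m ∧ Nonempty (K ≃* POmega F (quadFormOdd m F))) ∨
      (∃ m, 4 ≤ m ∧ Nonempty (K ≃* POmega F (quadFormPlus m F))) ∨
      (∃ (m : ℕ) (a b : F), 4 ≤ m ∧ (∀ z₁ z₂ : F, z₁ ^ 2 + a * z₁ * z₂ + b * z₂ ^ 2 = 0 → z₁ = 0 ∧ z₂ = 0) ∧
        Nonempty (K ≃* POmega F (quadFormMinus (m - 1) F a b)))))
    {x : K} (hx : x ^ p = 1) (hPC : PC p x) : x = 1 := by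
  obtain ⟨F, _, _, _, ⟨m, hm, ⟨e⟩⟩ | ⟨m, hm, ⟨e⟩⟩ | ⟨m, a, b, hm, hab, ⟨e⟩⟩⟩ := hK
  · exact of_odd hp5 m hm e hx hPC
  · exact of_plus hp5 m hm e hx hPC
  · exact of_minus hp5 (m - 1) (by omega) hab e hx hPC

end Cfsg.Agent.H451.Tor.Orth
end

private theorem dce_f41ac183892b : _root_.True := by
  try have : _root_.True := by simp only [_root_.Cfsg.quadFormMinus.eq_1]
  try have : _root_.True := by simp only [_root_.Cfsg.Agent.H451.Tor.Orth.minusForm.eq_1]
  exact _root_.True.intro
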